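import Cfsg.Agent.Lib.Lie.Group
import Cfsg.Agent.Lib.Lie.GTwoFourHallJanko.Data
import Cfsg.Agent.Lib.Spor.SuzG24

/-!
The group of type G2 over four elements acts on the 416 points of a suborbit of the Suzuki group.
-/

set_option autoImplicit false
set_option maxRecDepth 100000
set_option maxHeartbeats 2000000
set_option Elab.async false

noncomputable section

namespace Cfsg.Agent.Lie.GTwoFourHallJanko

open Cfsg.Lie Cfsg.Agent.Lie
open Cfsg.Agent.Lie.PermNine (Rep pg)
open Cfsg.Agent.Spor.CC Cfsg.Agent.Spor.SuzCert Cfsg.Agent.Spor.SuzCert.G24Act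

/-- The point of the Suzuki action. -/
def sPt (j : ℕ) : ℕ := fld RepG24.sub2.pts 16 j

theorem sPt_ok : ((List.range 416).all fun j => Nat.blt (sPt j) 1782 && Nat.beq (fld RepG24.sub2.posn 16 (sPt j)) j) = true := by
  decide +kernel

theorem gen_ok : ((List.range 6).all fun x => (List.range 416).all fun j =>
    Nat.blt (pg (baseP.getD x 0) j) 416 && Nat.beq (RepG24.rows x (sPt j)) (sPt (pg (baseP.getD x 0) j))) = true := by
  decide +kernel

/-- The embedding of the suborbit. -/
def nu (j : Fin 416) : Fin rep.P.n :=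
  ⟨sPt j, by
    have := List.all_eq_true.1 sPt_ok j (List.mem_range.2 j.2)
    simp only [Bool.and_eq_true, Nat.blt_eq] at this
    exact this.1⟩

theorem nu_injective : Function.Injective nu := by
  intro a b e
  have h : ∀ j : Fin 416, fld RepG24.sub2.posn 16 (nu j : ℕ) = j := fun j => by
    have := List.all_eq_true.1 sPt_ok j (List.mem_range.2 j.2)
    simp only [Bool.and_eq_true, Nat.beq_eq] at this
    exact this.2
  exact Fin.ext ((h a).symm.trans ((congrArg (fun q : Fin rep.P.n => fld RepG24.sub2.posn 16 (q : ℕ)) e).trans (h b)))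

theorem gen_moves {x : ℕ} (hx : x < 6) (j : Fin 416) :
    ∃ k : Fin 416, (k : ℕ) = pg (baseP.getD x 0) j ∧ rep.hom (pres.gen x) (nu j) = nu k := by
  have h := List.all_eq_true.1 (List.all_eq_true.1 gen_ok x (List.mem_range.2 hx)) j (List.mem_range.2 j.2)
  simp only [Bool.and_eq_true, Nat.blt_eq, Nat.beq_eq] at h
  refine ⟨⟨_, h.1⟩, rfl, Fin.ext ?_⟩
  have hx' : x < rep.P.ng := lt_of_lt_of_le hx (by decide +kernel)
  rw [rep.hom_gen x hx', rep.P.perm_val rep.valid hx']
  exact h.2

/-- The action of the stabiliser. -/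
theorem exists_stab_action :
    ∃ ρ : Hsub →* Equiv.Perm (Fin 416), ∀ p ∈ baseP, ∃ g : Hsub, Rep ρ g p := by
  classical
  haveI := order.1
  let S : Submonoid pres.Grp :=
    { carrier := {g | ∀ j, ∃ k, rep.hom g (nu j) = nu k}
      one_mem' := fun j => ⟨j, by rw [map_one]; rfl⟩
      mul_mem' := fun {g h} hg hh j => by
        obtain ⟨k, hk⟩ := hh j
        obtain ⟨l, hl⟩ := hg k
        exact ⟨l, by rw [map_mul, Equiv.Perm.mul_apply, hk, hl]⟩ }
  have hS : ∀ g : Hsub, (g : pres.Grp) ∈ S := by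
    intro g
    have hg : (g : pres.Grp) ∈ (Subgroup.closure (pres.gen '' {x | x ∈ [0, 1, 2, 3, 4, 5]})).toSubmonoid := by
      have h := (le_of_eq sub_eq_singles : Hsub ≤ pres.sub [0, 1, 2, 3, 4, 5]) g.2
      rw [Pres.sub] at h
      exact h
    rw [Subgroup.closure_toSubmonoid_of_finite] at hg
    refine (Submonoid.closure_le (S := S)).2 ?_ hg
    rintro _ ⟨x, hx, rfl⟩ j
    have hx6 : x < 6 := by simp only [Set.mem_ofPred_eq, List.mem_cons, List.not_mem_nil, or_false] at hx; omega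
    obtain ⟨k, -, hk⟩ := gen_moves hx6 j
    exact ⟨k, hk⟩
  choose f hf using hS
  have hone : ∀ j, f 1 j = j := fun j => nu_injective ((hf 1 j).symm.trans (by
    show rep.hom ((1 : Hsub) : pres.Grp) (nu j) = nu j
    rw [OneMemClass.coe_one, map_one]; rfl))
  have hmul : ∀ g h j, f (g * h) j = f g (f h j) := fun g h j => nu_injective ((hf (g * h) j).symm.trans (by
    rw [Subgroup.coe_mul, map_mul, Equiv.Perm.mul_apply, hf h j, hf g]))
  refine ⟨MonoidHom.mk' (fun g => ⟨f g, f g⁻¹, fun j => by rw [← hmul, inv_mul_cancel, hone],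
    fun j => by rw [← hmul, mul_inv_cancel, hone]⟩) (fun g h => Equiv.ext (hmul g h)), fun p hp => ?_⟩
  obtain ⟨x, hx, rfl⟩ := List.getElem_of_mem hp
  have hx6 : x < 6 := hx
  refine ⟨⟨pres.gen x, ?_⟩, fun j => ?_⟩
  · rw [sub_eq_singles, Pres.sub]
    exact Subgroup.subset_closure ⟨x, by simp only [Set.mem_ofPred_eq]; interval_cases x <;> simp, rfl⟩
  · obtain ⟨k, hk, hm⟩ := gen_moves hx6 j
    rw [← List.getD_eq_getElem baseP 0 hx, ← hk]
    exact congrArg Fin.val (nu_injective ((hf _ j).symm.trans hm))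

theorem map_mem_group {A B : Type*} [Field A] [Field B] (f : A →+* B) {g : GL chevG2.Idx A}
    (hg : g ∈ chevG2.group A) : Units.map f.mapMatrix.toMonoidHom g ∈ chevG2.group B := by
  have hle : chevG2.group A ≤ (chevG2.group B).comap (Units.map f.mapMatrix.toMonoidHom) := by
    refine (Subgroup.closure_le _).2 ?_
    rintro g ⟨r, t, h⟩
    refine Subgroup.subset_closure ⟨r, f t, ?_⟩
    have e1 := x_map (D := chevG2) f r.val t
    simp only [ChevalleyDatum.x, dif_pos r.isLt] at e1
    rw [← e1, ← h]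
    rfl
  exact hle hg

theorem group_map {E F : Type*} [Field E] [Field F] (e : E ≃+* F) :
    Nonempty (chevG2.group E ≃* chevG2.group F) := by
  let u : GL chevG2.Idx E ≃* GL chevG2.Idx F := Units.mapEquiv e.mapMatrix.toMulEquiv
  refine ⟨(u.subgroupMap _).trans (MulEquiv.subgroupCongr (le_antisymm ?_ fun g hg => ?_))⟩
  · rintro _ ⟨g, hg, rfl⟩
    exact map_mem_group (e : E →+* F) hg
  · exact ⟨u.symm g, map_mem_group (e.symm : F →+* E) hg, u.apply_symm_apply g⟩

/-- The action of the group. -/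
theorem exists_action {F : Type*} [Field F] [Fintype F] (hF : Fintype.card F = 4) :
    ∃ φ : chevG2.group F →* Equiv.Perm (Fin 416), ∀ p ∈ baseP, ∃ g, Rep φ g p := by
  obtain ⟨ρ, hρ⟩ := exists_stab_action
  obtain ⟨e1⟩ := group_map (FiniteField.ringEquivOfCardEq (K := F) (K' := Cfsg.Agent.Spor.SpFour.F4)
    (hF.trans Cfsg.Agent.Spor.SpFour.F4.card.symm))
  obtain ⟨e2⟩ := hsub_equiv
  let e : chevG2.group F ≃* Hsub := e1.trans e2.symm
  refine ⟨ρ.comp e.toMonoidHom, fun p hp => ?_⟩
  obtain ⟨g, hg⟩ := hρ p hp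
  exact ⟨e.symm g, fun k => by
    rw [MonoidHom.comp_apply, MulEquiv.coe_toMonoidHom, MulEquiv.apply_symm_apply]; exact hg k⟩

end Cfsg.Agent.Lie.GTwoFourHallJanko
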