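import Cfsg.Agent.Lib.Lie.GTwoFourHallJanko.Data

/-!
Kernel checks of the chain and the labelled suborbits of the group of type G2 over four elements.
-/

set_option autoImplicit false
set_option maxRecDepth 100000
set_option maxHeartbeats 0
set_option Elab.async false

namespace Cfsg.Agent.Lie.GTwoFourHallJanko

open Cfsg.Agent.Lie PermCover

theorem chainX_ok : PermNine.chainOK chainX [] = true := by decide +kernel

theorem chainX_size : PermNine.chainSize chainX = 251596800 := by decide +kernel

theorem chainX_base : chainX.map Prod.fst = baseB := by decide +kernel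

theorem chainE0_ok0 : ((chainE0.drop 0).take 80).all (elemOK 416 baseP) = true := by decide +kernel

theorem chainE0_ok1 : ((chainE0.drop 80).take 80).all (elemOK 416 baseP) = true := by decide +kernel

theorem chainE0_ok2 : ((chainE0.drop 160).take 80).all (elemOK 416 baseP) = true := by decide +kernel

theorem chainE0_ok3 : ((chainE0.drop 240).take 80).all (elemOK 416 baseP) = true := by decide +kernel

theorem chainE0_ok4 : ((chainE0.drop 320).take 80).all (elemOK 416 baseP) = true := by decide +kernel

theorem chainE0_ok5 : ((chainE0.drop 400).take 80).all (elemOK 416 baseP) = true := by decide +kernel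

theorem chainE0_all : chainE0.all (elemOK 416 baseP) = true := by
  rw [show chainE0 = ((chainE0.drop 0).take 80) ++ ((chainE0.drop 80).take 80) ++ ((chainE0.drop 160).take 80) ++ ((chainE0.drop 240).take 80) ++ ((chainE0.drop 320).take 80) ++ ((chainE0.drop 400).take 80) from by decide +kernel]
  simp only [List.all_append, chainE0_ok0, chainE0_ok1, chainE0_ok2, chainE0_ok3, chainE0_ok4, chainE0_ok5, Bool.and_self]

theorem chainE1_ok0 : ((chainE1.drop 0).take 80).all (elemOK 416 baseP) = true := by decide +kernel

theorem chainE1_ok1 : ((chainE1.drop 80).take 80).all (elemOK 416 baseP) = true := by decide +kernel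

theorem chainE1_ok2 : ((chainE1.drop 160).take 80).all (elemOK 416 baseP) = true := by decide +kernel

theorem chainE1_ok3 : ((chainE1.drop 240).take 80).all (elemOK 416 baseP) = true := by decide +kernel

theorem chainE1_all : chainE1.all (elemOK 416 baseP) = true := by
  rw [show chainE1 = ((chainE1.drop 0).take 80) ++ ((chainE1.drop 80).take 80) ++ ((chainE1.drop 160).take 80) ++ ((chainE1.drop 240).take 80) from by decide +kernel]
  simp only [List.all_append, chainE1_ok0, chainE1_ok1, chainE1_ok2, chainE1_ok3, Bool.and_self]

theorem chainE2_ok0 : ((chainE2.drop 0).take 80).all (elemOK 416 baseP) = true := by decide +kernel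

theorem chainE2_ok1 : ((chainE2.drop 80).take 80).all (elemOK 416 baseP) = true := by decide +kernel

theorem chainE2_all : chainE2.all (elemOK 416 baseP) = true := by
  rw [show chainE2 = ((chainE2.drop 0).take 80) ++ ((chainE2.drop 80).take 80) from by decide +kernel]
  simp only [List.all_append, chainE2_ok0, chainE2_ok1, Bool.and_self]

theorem chainE3_ok0 : ((chainE3.drop 0).take 80).all (elemOK 416 baseP) = true := by decide +kernel

theorem chainE3_all : chainE3.all (elemOK 416 baseP) = true := by
  rw [show chainE3 = ((chainE3.drop 0).take 80) from by decide +kernel]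
  simp only [List.all_append, chainE3_ok0, Bool.and_self]

theorem chainE4_ok0 : ((chainE4.drop 0).take 80).all (elemOK 416 baseP) = true := by decide +kernel

theorem chainE4_all : chainE4.all (elemOK 416 baseP) = true := by
  rw [show chainE4 = ((chainE4.drop 0).take 80) from by decide +kernel]
  simp only [List.all_append, chainE4_ok0, Bool.and_self]

theorem chainE_ok : (chainE.all fun l => l.2.all (elemOK 416 baseP)) = true := by
  simp only [chainE, List.all_cons, List.all_nil, chainE0_all, chainE1_all, chainE2_all, chainE3_all, chainE4_all, Bool.and_self]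

/-- A tree of a labelled orbit. -/
def treeEntry (T : List ℕ) (x : ℕ) : ℕ × ℕ × ℕ × ℕ :=
  let v := T.getD x 0
  (v / 16 / 512 / 512, v / 16 / 512 % 512, v / 16 % 512, v % 16)

/-- A tree checked. -/
def treeOK (a : ℕ) (S : List Elem) (root : List ℕ) (T : List ℕ) : Bool :=
  (S.all fun e => Nat.beq (PermNine.pg e.1 a) a) && (List.range 416).all fun x =>
    Nat.beq (treeEntry T x).1 root.length ||
      (Nat.blt (treeEntry T x).1 root.length &&
        bif Nat.beq (treeEntry T x).2.1 0 then Nat.beq (root.getD (treeEntry T x).1 0) x
        else (Nat.blt (treeEntry T x).2.2.1 416 && (Nat.beq (treeEntry T (treeEntry T x).2.2.1).1 (treeEntry T x).1 &&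
          (Nat.blt (treeEntry T (treeEntry T x).2.2.1).2.1 (treeEntry T x).2.1 &&
          (Nat.blt (treeEntry T x).2.2.2 S.length &&
            Nat.beq (PermNine.pg (S.getD (treeEntry T x).2.2.2 (0, 0, [])).1 (treeEntry T x).2.2.1) x)))))

theorem top_tree : treeOK 0 topS topRoot topTree = true := by decide +kernel

theorem topS_ok : topS.all (elemOK 416 baseP) = true := by decide +kernel

theorem hund_tree : treeOK 3 hundS hundRoot hundTree = true := by decide +kernel

theorem hundS_ok : hundS.all (elemOK 416 baseP) = true := by decide +kernel

theorem rest_tree : treeOK 1 restS restRoot restTree = true := by decide +kernel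

theorem restS_ok : restS.all (elemOK 416 baseP) = true := by decide +kernel

theorem hallE_ok : hallE.all (elemOK 416 baseP) = true := by decide +kernel

end Cfsg.Agent.Lie.GTwoFourHallJanko
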