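import Mathlib

/-!
A point stabiliser is maximal when no union of its orbits, by sizes, can be an orbit of a larger group.
-/

set_option autoImplicit false

namespace Cfsg.Agent.Lie.GTwoFourHallJanko

open Classical in
/-- Maximality of a point stabiliser from labelled orbits. -/
theorem coatom_of_labels {P : Type*} [Group P] [Finite P] {m r : ℕ} (ρ : P →* Equiv.Perm (Fin m)) (a : Fin m)
    (lab : Fin m → Fin r) (O : Finset (Fin m)) (ha : a ∈ O) (hinv : ∀ g : P, ∀ x ∈ O, ρ g x ∈ O)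
    (htrans : ∀ x ∈ O, ∃ g : P, ρ g a = x) (hlab : ∀ x ∈ O, ∀ y ∈ O, lab x = lab y → ∃ s : P, ρ s a = a ∧ ρ s x = y)
    (hdiv : ∀ T : Finset (Fin r), lab a ∈ T → (O.filter fun x => lab x ∈ T).card ∣ O.card →
      (O.filter fun x => lab x ∈ T).card = 1 ∨ (O.filter fun x => lab x ∈ T).card = O.card)
    (hne : 1 < O.card) (S : Subgroup P) (hS : ∀ g, g ∈ S ↔ ρ g a = a) : IsCoatom S := by
  have orb : ∀ (K : Subgroup P), S ≤ K → ∀ (U : Finset (Fin m)), (∀ x, x ∈ U ↔ ∃ k ∈ K, ρ k a = x) →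
      Nat.card K = U.card * Nat.card S := by
    intro K hK U hU
    let f : K → U := fun k => ⟨ρ k a, (hU _).2 ⟨k, k.2, rfl⟩⟩
    have e : K ≃ U × S := by
      choose c hc1 hc2 using fun x : U => (hU x).1 x.2
      refine
        { toFun := fun k => (f k, ⟨(c (f k))⁻¹ * k, (hS _).2 ?_⟩)
          invFun := fun p => ⟨c p.1 * p.2, mul_mem (hc1 p.1) (hK p.2.2)⟩
          left_inv := fun k => Subtype.ext (mul_inv_cancel_left _ _)
          right_inv := fun p => ?_ }
      · rw [map_mul, Equiv.Perm.mul_apply]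
        show (ρ (c (f k))⁻¹) ((f k : Fin m)) = a
        rw [← hc2 (f k), map_inv, Equiv.Perm.inv_def, Equiv.symm_apply_apply]
      · have h1 : f ⟨c p.1 * p.2, mul_mem (hc1 p.1) (hK p.2.2)⟩ = p.1 := Subtype.ext (by
          show ρ (c p.1 * p.2) a = p.1
          rw [map_mul, Equiv.Perm.mul_apply, (hS _).1 p.2.2, hc2])
        refine Prod.ext h1 (Subtype.ext ?_)
        show (c (f ⟨c p.1 * p.2, _⟩))⁻¹ * (c p.1 * p.2) = p.2
        rw [h1, inv_mul_cancel_left]
    rw [Nat.card_congr e, Nat.card_prod, Nat.card_eq_fintype_card (α := U), Fintype.card_coe]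
  have hO : ∀ x, x ∈ O ↔ ∃ k ∈ (⊤ : Subgroup P), ρ k a = x := fun x =>
    ⟨fun hx => (htrans x hx).imp fun g hg => ⟨trivial, hg⟩, fun ⟨k, _, hk⟩ => hk ▸ hinv k a ha⟩
  have hsub : ∀ K : Subgroup P, S < K → K = ⊤ := by
    intro K hlt
    obtain ⟨U, hU⟩ : ∃ U : Finset (Fin m), ∀ x, x ∈ U ↔ ∃ k ∈ K, ρ k a = x :=
      ⟨Finset.univ.filter fun x => ∃ k ∈ K, ρ k a = x, fun x => by simp⟩
    have hUO : U = O.filter fun x => lab x ∈ U.image lab := by
      ext x
      simp only [Finset.mem_filter, Finset.mem_image]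
      constructor
      · intro hx
        obtain ⟨k, -, e⟩ := (hU x).1 hx
        exact ⟨e ▸ hinv k a ha, x, hx, rfl⟩
      · rintro ⟨hx, y, hy, e⟩
        obtain ⟨k, hk, hk'⟩ := (hU y).1 hy
        obtain ⟨s, hs1, hs2⟩ := hlab y (hk' ▸ hinv k a ha) x hx e
        refine (hU x).2 ⟨s * k, mul_mem (hlt.le ((hS s).2 hs1)) hk, ?_⟩
        rw [map_mul, Equiv.Perm.mul_apply, hk', hs2]
    have hdvd : U.card ∣ O.card := by
      have h1 := orb K hlt.le U hU
      have h2 := orb ⊤ le_top O hO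
      have h3 : Nat.card K ∣ Nat.card (⊤ : Subgroup P) := Subgroup.card_dvd_of_le le_top
      rw [h1, h2] at h3
      exact Nat.dvd_of_mul_dvd_mul_right Nat.card_pos h3
    have haU : a ∈ U := (hU a).2 ⟨1, one_mem _, by rw [map_one]; rfl⟩
    rcases hdiv (U.image lab) (Finset.mem_image_of_mem lab haU) (hUO ▸ hdvd) with h | h
    · rw [← hUO] at h
      refine absurd (fun k hk => (hS k).2 ?_) hlt.not_ge
      obtain ⟨y, hy⟩ := Finset.card_eq_one.1 h
      exact (Finset.mem_singleton.1 (hy ▸ (hU _).2 ⟨k, hk, rfl⟩)).trans (Finset.mem_singleton.1 (hy ▸ haU)).symm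
    · rw [← hUO] at h
      refine (Subgroup.eq_top_iff' K).2 fun g => ?_
      have hUeq : U = O := Finset.eq_of_subset_of_card_le (fun x hx => by
        obtain ⟨k, -, e⟩ := (hU x).1 hx
        exact e ▸ hinv k a ha) h.ge
      obtain ⟨k, hk, e⟩ := (hU (ρ g a)).1 (hUeq ▸ hinv g a ha)
      have hs : k⁻¹ * g ∈ S := (hS _).2 (by
        rw [map_mul, Equiv.Perm.mul_apply, ← e, map_inv, Equiv.Perm.inv_def, Equiv.symm_apply_apply])
      simpa using mul_mem hk (hlt.le hs)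
  refine ⟨fun h => ?_, hsub⟩
  obtain ⟨x, hx, hxa⟩ := Finset.exists_mem_ne hne a
  obtain ⟨g, hg⟩ := htrans x hx
  exact hxa (hg ▸ (hS g).1 (h ▸ Subgroup.mem_top g))

end Cfsg.Agent.Lie.GTwoFourHallJanko
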