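import Cfsg.Agent.Lib.Lie.GTwoFourHallJanko.Action
import Cfsg.Agent.Lib.Lie.GTwoFourHallJanko.Checks
import Cfsg.Agent.Lib.Lie.GTwoFourHallJanko.Labels
import Cfsg.Agent.Lib.Lie.Ico.Hundred

/-!
The group of type G2 over four elements is extremely primitive on the cosets of the Hall–Janko group.
-/

set_option autoImplicit false
set_option maxRecDepth 100000
set_option maxHeartbeats 2000000
set_option Elab.async false

noncomputable section

namespace Cfsg.Agent.Lie.GTwoFourHallJanko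

open Cfsg Cfsg.Agent.Lie PermCover
open Cfsg.Agent.Lie.PermNine (Rep pg)

universe u

/-- The label of a point in a tree. -/
def labT (T : List ℕ) (r : ℕ) (x : Fin 416) : Fin (r + 1) :=
  ⟨(treeEntry T x).1 % (r + 1), Nat.mod_lt _ (Nat.succ_pos _)⟩

/-- A suborbit. -/
def subO (l : Fin 4) : Finset (Fin 416) := Finset.univ.filter fun x => labT topTree 3 x = l

theorem sub_facts : (3 : Fin 416) ∈ subO 2 ∧ (subO 2).card = 100 ∧ (1 : Fin 416) ∈ subO 1 ∧ (subO 1).card = 315 ∧
    (∀ x : Fin 416, x ≠ 0 → x ∈ subO 1 ∨ x ∈ subO 2) := by decide +kernel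

theorem div_top : ∀ T : Finset (Fin 4), labT topTree 3 0 ∈ T →
    (Finset.univ.filter fun x : Fin 416 => labT topTree 3 x ∈ T).card ∣ 416 →
    (Finset.univ.filter fun x : Fin 416 => labT topTree 3 x ∈ T).card = 1 ∨
      (Finset.univ.filter fun x : Fin 416 => labT topTree 3 x ∈ T).card = 416 := by decide +kernel

theorem div_hund : ∀ T : Finset (Fin 4), labT hundTree 3 3 ∈ T →
    ((subO 2).filter fun x => labT hundTree 3 x ∈ T).card ∣ 100 →
    ((subO 2).filter fun x => labT hundTree 3 x ∈ T).card = 1 ∨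
      ((subO 2).filter fun x => labT hundTree 3 x ∈ T).card = 100 := by decide +kernel

theorem div_rest : ∀ T : Finset (Fin 7), labT restTree 6 1 ∈ T →
    ((subO 1).filter fun x => labT restTree 6 x ∈ T).card ∣ 315 →
    ((subO 1).filter fun x => labT restTree 6 x ∈ T).card = 1 ∨
      ((subO 1).filter fun x => labT restTree 6 x ∈ T).card = 315 := by decide +kernel

theorem stab_fix : topS.all (fun e => Nat.beq (pg e.1 0) 0) = true ∧ hundS.all (fun e => Nat.beq (pg e.1 0) 0) = true ∧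
    restS.all (fun e => Nat.beq (pg e.1 0) 0) = true ∧ hallE.all (fun e => Nat.beq (pg e.1 0) 0) = true := by
  decide +kernel

theorem top_lt : ∀ x : Fin 416, (treeEntry topTree x).1 < 3 := by decide +kernel

theorem hund_lt : ∀ x : Fin 416, x ∈ subO 2 → (treeEntry hundTree x).1 < 3 := by decide +kernel

theorem rest_lt : ∀ x : Fin 416, x ∈ subO 1 → (treeEntry restTree x).1 < 6 := by decide +kernel

theorem sub_zero : (0 : Fin 416) ∉ subO 1 ∧ (0 : Fin 416) ∉ subO 2 ∧ ∀ x : Fin 416, ¬(x ∈ subO 1 ∧ x ∈ subO 2) := by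
  decide +kernel

theorem top_trans : ∀ x : Fin 416, ∃ e ∈ chainE0, pg e.1 0 = (x : ℕ) := by decide +kernel

theorem top_tree0 : treeOK 0 topS topRoot topTree = true := top_tree

theorem hund_pts : hundPt.length = 100 ∧ hundPt.Nodup ∧ (∀ i : Fin 100, hundPt.getD i 0 < 416 ∧
    labT topTree 3 ⟨hundPt.getD i 0 % 416, Nat.mod_lt _ (by norm_num)⟩ = 2) ∧
    ∀ x : Fin 416, x ∈ subO 2 → ∃ i : Fin 100, hundPt.getD i 0 = (x : ℕ) := by decide +kernel

theorem hall_moves : ∀ i : Fin 100, pg (hallE.getD 0 (0, 0, [])).1 (hundPt.getD i 0) = hundPt.getD (J2Cert.setActX.getD i 0) 0 ∧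
    pg (hallE.getD 1 (0, 0, [])).1 (hundPt.getD i 0) = hundPt.getD (J2Cert.setActY.getD i 0) 0 := by decide +kernel

theorem word_rep {Γ : Type*} [Group Γ] (ρ : Γ →* Equiv.Perm (Fin 416)) (hb : ∀ p ∈ baseP, ∃ g, Rep ρ g p)
    {e : Elem} (he : elemOK 416 baseP e = true) : ∃ g, Rep ρ g e.1 := by
  simp only [elemOK, Bool.and_eq_true, List.all_eq_true, Nat.blt_eq, List.mem_range, Nat.beq_eq] at he
  have key : ∀ w : List ℕ, (∀ s ∈ w, s < baseP.length) → ∃ g, ∀ k : Fin 416, (ρ g k : ℕ) = imgP baseP w k := by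
    intro w
    induction w with
    | nil => exact fun _ => ⟨1, fun k => by rw [map_one]; rfl⟩
    | cons s w ih =>
      intro h
      simp only [List.mem_cons, forall_eq_or_imp] at h
      obtain ⟨g, hg⟩ := ih h.2
      obtain ⟨u, hu⟩ := hb (baseP.getD s 0) (by rw [List.getD_eq_getElem _ _ h.1]; exact List.getElem_mem _)
      exact ⟨u * g, fun k => by rw [map_mul, Equiv.Perm.mul_apply, hu, hg]; rfl⟩
  obtain ⟨g, hg⟩ := key e.2.2 he.1
  exact ⟨g, fun k => (hg k).trans (he.2 k k.2).1.symm⟩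

section

variable {G : Type u} [Group G] [Finite G] (φ : G →* Equiv.Perm (Fin 416))

/-- The stabiliser of the first point. -/
def ptH : Subgroup G := (MulAction.stabilizer (Equiv.Perm (Fin 416)) (0 : Fin 416)).comap φ

theorem mem_ptH (g : G) : g ∈ ptH φ ↔ φ g 0 = 0 := Iff.rfl

variable (hb : ∀ p ∈ baseP, ∃ g, Rep φ g p)

include hb

theorem rep_in_H {S : List Elem} (hS : S.all (elemOK 416 baseP) = true)
    (h0 : S.all (fun e => Nat.beq (pg e.1 0) 0) = true) {e : Elem} (he : e ∈ S) :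
    ∃ g ∈ ptH φ, Rep φ g e.1 := by
  obtain ⟨g, hg⟩ := word_rep φ hb (List.all_eq_true.1 hS e he)
  exact ⟨g, Fin.ext ((hg 0).trans (Nat.eq_of_beq_eq_true (List.all_eq_true.1 h0 e he))), hg⟩

/-- Points with the same label are joined by elements fixing the point. -/
theorem tree_conn {a : Fin 416} {S : List Elem} {root T : List ℕ} {r : ℕ} (hr : root.length = r)
    (hS : S.all (elemOK 416 baseP) = true) (h0 : S.all (fun e => Nat.beq (pg e.1 0) 0) = true)
    (ht : treeOK a S root T = true) {x y : Fin 416} (hx : (treeEntry T x).1 < r)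
    (hy : (treeEntry T y).1 < r) (hxy : labT T r x = labT T r y) :
    ∃ s : ptH φ, φ s a = a ∧ φ s x = y := by
  simp only [treeOK, Bool.and_eq_true, List.all_eq_true, List.mem_range, Bool.or_eq_true, Nat.beq_eq, Nat.blt_eq] at ht
  have key : ∀ d, ∀ z : Fin 416, (treeEntry T z).2.1 = d → (treeEntry T z).1 < r →
      ∃ s : ptH φ, φ s a = a ∧ ∃ w : Fin 416, (w : ℕ) = root.getD (treeEntry T z).1 0 ∧ φ s w = z := by
    intro d
    induction d using Nat.strong_induction_on with
    | _ d ih =>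
      intro z hd hz
      rcases ht.2 z z.2 with h | ⟨-, h⟩
      · omega
      by_cases hd0 : (treeEntry T z).2.1 = 0
      · rw [show Nat.beq (treeEntry T z).2.1 0 = true by rw [hd0]; rfl, cond_true, Nat.beq_eq] at h
        exact ⟨1, by rw [OneMemClass.coe_one, map_one]; rfl, z, h.symm, by rw [OneMemClass.coe_one, map_one]; rfl⟩
      · rw [show Nat.beq (treeEntry T z).2.1 0 = false from Bool.eq_false_iff.2 fun e => hd0 (Nat.eq_of_beq_eq_true e),
          cond_false] at h
        simp only [Bool.and_eq_true, Nat.beq_eq, Nat.blt_eq] at h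
        obtain ⟨hp, hl, hdep, hk, hm⟩ := h
        obtain ⟨s, hs, w, hw, hsw⟩ := ih _ (hd ▸ hdep) ⟨_, hp⟩ rfl (hl ▸ hz)
        have hmem : S.getD (treeEntry T z).2.2.2 (0, 0, []) ∈ S := by
          rw [List.getD_eq_getElem _ _ hk]; exact List.getElem_mem _
        obtain ⟨g, hgH, hg⟩ := rep_in_H φ hb hS h0 hmem
        refine ⟨⟨g, hgH⟩ * s, ?_, w, hw.trans (by rw [hl]), ?_⟩
        · rw [Subgroup.coe_mul, map_mul, Equiv.Perm.mul_apply, hs]
          exact Fin.ext ((hg a).trans (ht.1 _ hmem))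
        · rw [Subgroup.coe_mul, map_mul, Equiv.Perm.mul_apply, hsw]
          exact Fin.ext ((hg ⟨_, hp⟩).trans hm)
  obtain ⟨s, hs, w, hw, hsw⟩ := key _ x rfl hx
  obtain ⟨t, ht', w', hw', htw⟩ := key _ y rfl hy
  have hl : (treeEntry T x).1 = (treeEntry T y).1 := by
    have := congrArg Fin.val hxy
    simp only [labT] at this
    rwa [Nat.mod_eq_of_lt (by omega), Nat.mod_eq_of_lt (by omega)] at this
  obtain rfl : w = w' := Fin.ext (hw.trans ((congrArg (root.getD · 0) hl).trans hw'.symm))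
  refine ⟨t * s⁻¹, ?_, ?_⟩
  · rw [Subgroup.coe_mul, InvMemClass.coe_inv, map_mul, map_inv, Equiv.Perm.mul_apply,
      show (φ s)⁻¹ a = a from (Equiv.Perm.inv_eq_iff_eq).2 hs.symm, ht']
  · rw [Subgroup.coe_mul, InvMemClass.coe_inv, map_mul, map_inv, Equiv.Perm.mul_apply,
      show (φ s)⁻¹ x = w from (Equiv.Perm.inv_eq_iff_eq).2 hsw.symm, htw]

theorem trans_top (x : Fin 416) : ∃ g, φ g 0 = x := by
  obtain ⟨e, he, h⟩ := top_trans x
  obtain ⟨g, hg⟩ := word_rep φ hb (List.all_eq_true.1 chainE0_all e he)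
  exact ⟨g, Fin.ext ((hg 0).trans h)⟩

theorem chain_reps : PermNine.Reps (φ := φ) (Set.univ : Set G) chainX := by
  intro l hl
  obtain ⟨l, hl', rfl⟩ := List.mem_map.1 hl
  refine ⟨?_, fun p hp => ?_⟩
  · have : l.1 ∈ baseB := chainX_base ▸ List.mem_map.2 ⟨_, List.mem_map.2 ⟨l, hl', rfl⟩, rfl⟩
    revert this
    generalize l.1 = b
    decide +revert +kernel
  obtain ⟨e, he, rfl⟩ := List.mem_map.1 hp
  obtain ⟨g, hg⟩ := word_rep φ hb (List.all_eq_true.1 (List.all_eq_true.1 chainE_ok l hl') e he)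
  exact ⟨g, Set.mem_univ _, hg⟩

theorem injective (hcard : Nat.card G = 251596800) : Function.Injective φ := by
  refine (injective_iff_map_eq_one φ).2 fun g hg => ?_
  refine fix_one_of_chain chainX_ok (chain_reps φ hb) (by rw [chainX_size, hcard]) (by rw [chainX_size]; norm_num)
    fun k _ => ?_
  rw [hg]
  rfl

theorem card_ptH (hcard : Nat.card G = 251596800) : Nat.card (ptH φ) = 604800 := by
  letI : MulAction G (Fin 416) := MulAction.compHom _ φ
  haveI : MulAction.IsPretransitive G (Fin 416) := ⟨fun x y => by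
    obtain ⟨g, hg⟩ := trans_top φ hb x
    obtain ⟨h, hh⟩ := trans_top φ hb y
    refine ⟨h * g⁻¹, ?_⟩
    show φ (h * g⁻¹) x = y
    rw [map_mul, map_inv, Equiv.Perm.mul_apply, show (φ g)⁻¹ x = 0 from Equiv.Perm.inv_eq_iff_eq.2 hg.symm, hh]⟩
  have hidx : (ptH φ).index = 416 := by
    rw [show ptH φ = MulAction.stabilizer G (0 : Fin 416) by ext g; rfl,
      MulAction.index_stabilizer_of_transitive, Nat.card_fin]
  have := Subgroup.card_mul_index (ptH φ)
  rw [hidx, hcard] at this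
  omega

theorem class_conn {i : Fin 4} {y z : Fin 416} (hy : y ∈ subO i) (hz : z ∈ subO i) :
    ∃ s : ptH φ, φ s 0 = 0 ∧ φ s y = z := by
  rw [subO, Finset.mem_filter] at hy hz
  exact tree_conn φ hb (a := 0) (r := 3) (root := topRoot) rfl topS_ok stab_fix.1 top_tree0
    (top_lt y) (top_lt z) (hy.2.trans hz.2.symm)

theorem orbit_inv (hcard : Nat.card G = 251596800) {l : Fin 4} (hl : l = 1 ∨ l = 2) (g : ptH φ) {x : Fin 416}
    (hx : x ∈ subO l) : φ g x ∈ subO l := by
  obtain ⟨-, -, -, -, hcov⟩ := sub_facts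
  obtain ⟨hz1, hz2, hdisj⟩ := sub_zero
  have hx0 : x ≠ 0 := fun e => by
    rcases hl with rfl | rfl
    exacts [hz1 (e ▸ hx), hz2 (e ▸ hx)]
  have hne : φ g x ≠ 0 := fun e => hx0 ((φ g).injective (e.trans ((mem_ptH φ g).1 g.2).symm))
  by_contra hn
  letI : MulAction (ptH φ) (Fin 416) := MulAction.compHom _ (φ.comp (ptH φ).subtype)
  have hsmul : ∀ (h : ptH φ) (y : Fin 416), h • y = φ h y := fun _ _ => rfl
  have horb : MulAction.orbit (ptH φ) x = ({0}ᶜ : Set (Fin 416)) := by
    ext y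
    simp only [Set.mem_compl_iff, Set.mem_singleton_iff, MulAction.mem_orbit_iff, hsmul]
    constructor
    · rintro ⟨h, rfl⟩ e
      exact hx0 ((φ h).injective (e.trans ((mem_ptH φ h).1 h.2).symm))
    · intro hy
      by_cases hyl : y ∈ subO l
      · exact (class_conn φ hb hx hyl).imp fun s hs => hs.2
      obtain ⟨j, hj, hgj, hyj⟩ : ∃ j : Fin 4, (j = 1 ∨ j = 2) ∧ φ g x ∈ subO j ∧ y ∈ subO j := by
        rcases hl with rfl | rfl
        · exact ⟨2, Or.inr rfl, (hcov _ hne).resolve_left hn, (hcov _ hy).resolve_left hyl⟩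
        · exact ⟨1, Or.inl rfl, (hcov _ hne).resolve_right hn, (hcov _ hy).resolve_right hyl⟩
      obtain ⟨s, -, hs⟩ := class_conn φ hb hgj hyj
      exact ⟨s * g, by rw [Subgroup.coe_mul, map_mul, Equiv.Perm.mul_apply, hs]⟩
  have h1 : (MulAction.stabilizer (ptH φ) x).index = 415 := by
    rw [MulAction.index_stabilizer, horb, Set.ncard_compl, Set.ncard_singleton, Nat.card_fin]
  have h2 := Subgroup.index_dvd_card (MulAction.stabilizer (ptH φ) x)
  rw [h1, card_ptH φ hb hcard] at h2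
  norm_num at h2

/-- The stabiliser of a point in the stabiliser of the first point. -/
def subS (a : Fin 416) : Subgroup (ptH φ) :=
  (MulAction.stabilizer (Equiv.Perm (Fin 416)) a).comap (φ.comp (ptH φ).subtype)

omit hb in
theorem mem_subS (a : Fin 416) (g : ptH φ) : g ∈ subS φ a ↔ φ g a = a := Iff.rfl

theorem coatom_ptH : IsCoatom (ptH φ) := by
  refine coatom_of_labels φ 0 (labT topTree 3) Finset.univ (Finset.mem_univ _) (fun _ _ _ => Finset.mem_univ _)
    (fun x _ => trans_top φ hb x) (fun x _ y _ h => ?_) ?_ (by rw [Finset.card_univ, Fintype.card_fin]; norm_num)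
    (ptH φ) (mem_ptH φ)
  · obtain ⟨s, hs, e⟩ := tree_conn φ hb (a := 0) (r := 3) (root := topRoot) rfl topS_ok stab_fix.1 top_tree0
      (top_lt x) (top_lt y) h
    exact ⟨s, hs, e⟩
  · intro T hT
    rw [Finset.card_univ, Fintype.card_fin]
    exact div_top T hT

theorem coatom_three (hcard : Nat.card G = 251596800) : IsCoatom (subS φ 3) := by
  obtain ⟨h1, c1, -, -, -⟩ := sub_facts
  refine coatom_of_labels (φ.comp (ptH φ).subtype) 3 (labT hundTree 3) (subO 2) h1
    (fun g _ hx => orbit_inv φ hb hcard (Or.inr rfl) g hx)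
    (fun x hx => (class_conn φ hb h1 hx).imp fun s hs => hs.2) (fun x hx y hy h => ?_) ?_ (by rw [c1]; norm_num)
    (subS φ 3) (mem_subS φ 3)
  · exact tree_conn φ hb (a := 3) (r := 3) (root := hundRoot) rfl hundS_ok stab_fix.2.1 hund_tree
      (hund_lt x hx) (hund_lt y hy) h
  · intro T hT
    rw [c1]
    exact div_hund T hT

theorem coatom_one (hcard : Nat.card G = 251596800) : IsCoatom (subS φ 1) := by
  obtain ⟨-, -, h2, c2, -⟩ := sub_facts
  refine coatom_of_labels (φ.comp (ptH φ).subtype) 1 (labT restTree 6) (subO 1) h2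
    (fun g _ hx => orbit_inv φ hb hcard (Or.inl rfl) g hx)
    (fun x hx => (class_conn φ hb h2 hx).imp fun s hs => hs.2) (fun x hx y hy h => ?_) ?_ (by rw [c2]; norm_num)
    (subS φ 1) (mem_subS φ 1)
  · exact tree_conn φ hb (a := 1) (r := 6) (root := restRoot) rfl restS_ok stab_fix.2.2.1 rest_tree
      (rest_lt x hx) (rest_lt y hy) h
  · intro T hT
    rw [c2]
    exact div_rest T hT

omit hb in
theorem subS_conj (t : ptH φ) (a : Fin 416) :
    subS φ (φ t a) = MulEquiv.mapSubgroup (MulAut.conj t) (subS φ a) := by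
  ext g
  show _ ↔ g ∈ (subS φ a).map (MulAut.conj t).toMonoidHom
  rw [Subgroup.mem_map_equiv, mem_subS, mem_subS, MulAut.conj_symm_apply, Subgroup.coe_mul, Subgroup.coe_mul,
    InvMemClass.coe_inv, map_mul, map_mul, map_inv, Equiv.Perm.mul_apply, Equiv.Perm.mul_apply,
    Equiv.Perm.inv_eq_iff_eq]

theorem coatom_subS (hcard : Nat.card G = 251596800) {a : Fin 416} (ha : a ≠ 0) : IsCoatom (subS φ a) := by
  obtain ⟨h1, -, h2, -, hcov⟩ := sub_facts
  rcases hcov a ha with h | h
  · obtain ⟨t, -, ht⟩ := class_conn φ hb h2 h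
    rw [← ht, subS_conj, OrderIso.isCoatom_iff]
    exact coatom_one φ hb hcard
  · obtain ⟨t, -, ht⟩ := class_conn φ hb h1 h
    rw [← ht, subS_conj, OrderIso.isCoatom_iff]
    exact coatom_three φ hb hcard

omit hb in
theorem inf_conj (x : G) :
    (ptH φ ⊓ (ptH φ).map (MulAut.conj x).toMonoidHom).subgroupOf (ptH φ) = subS φ (φ x 0) := by
  ext g
  rw [Subgroup.mem_subgroupOf, Subgroup.mem_inf, Subgroup.mem_map_equiv, mem_subS]
  constructor
  · rintro ⟨-, h⟩
    rw [mem_ptH, MulAut.conj_symm_apply, map_mul, map_mul, map_inv, Equiv.Perm.mul_apply, Equiv.Perm.mul_apply,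
      Equiv.Perm.inv_eq_iff_eq] at h
    exact h
  · intro h
    refine ⟨g.2, ?_⟩
    rw [mem_ptH, MulAut.conj_symm_apply, map_mul, map_mul, map_inv, Equiv.Perm.mul_apply, Equiv.Perm.mul_apply,
      Equiv.Perm.inv_eq_iff_eq]
    exact h

theorem iso_J2 (hcard : Nat.card G = 251596800) : Cfsg.Spor.IsoJ2 (ptH φ) := by
  classical
  obtain ⟨hlen, hnd, hlt, hsurj⟩ := hund_pts
  let pt : Fin 100 → Fin 416 := fun i => ⟨hundPt.getD i 0, (hlt i).1⟩
  have hptO : ∀ i, pt i ∈ subO 2 := fun i => by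
    rw [subO, Finset.mem_filter]
    refine ⟨Finset.mem_univ _, Eq.trans (congrArg (labT topTree 3) (Fin.ext ?_)) (hlt i).2⟩
    exact (Nat.mod_eq_of_lt (hlt i).1).symm
  have hinj : Function.Injective pt := fun i j e => by
    have e' : hundPt.getD i 0 = hundPt.getD j 0 := congrArg Fin.val e
    rw [List.getD_eq_getElem _ _ (hlen.symm ▸ i.2), List.getD_eq_getElem _ _ (hlen.symm ▸ j.2)] at e'
    exact Fin.ext (hnd.getElem_inj_iff.1 e')
  have hmov : ∀ (g : ptH φ) (i : Fin 100), ∃ k, φ g (pt i) = pt k := fun g i => by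
    obtain ⟨k, hk⟩ := hsurj _ (orbit_inv φ hb hcard (Or.inr rfl) g (hptO i))
    exact ⟨k, Fin.ext hk.symm⟩
  choose f hf using hmov
  have hone : ∀ j, f 1 j = j := fun j => hinj ((hf 1 j).symm.trans (by rw [OneMemClass.coe_one, map_one]; rfl))
  have hmul : ∀ g h j, f (g * h) j = f g (f h j) := fun g h j => hinj ((hf (g * h) j).symm.trans (by
    rw [Subgroup.coe_mul, map_mul, Equiv.Perm.mul_apply, hf h j, hf g]))
  let σ : ptH φ →* Equiv.Perm (Fin 100) := MonoidHom.mk' (fun g => ⟨f g, f g⁻¹,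
    fun j => by rw [← hmul, inv_mul_cancel, hone], fun j => by rw [← hmul, mul_inv_cancel, hone]⟩)
    (fun g h => Equiv.ext (hmul g h))
  have hgen : ∀ n : Bool, ∀ u : Cfsg.Spor.twoJ2, Ico.beta u = (if n then J2Cert.yU else J2Cert.xU) →
      (∀ j : Fin 315, (J2Cert.reflHom u j : ℕ) = if n then J2Cert.conjY.get j else J2Cert.conjX.get j) →
      J2Cert.setHom u ∈ σ.range := by
    intro n u _ hu
    obtain ⟨g, hgH, hg⟩ := rep_in_H φ hb hallE_ok stab_fix.2.2.2
      (e := hallE.getD (if n then 1 else 0) (0, 0, [])) (by cases n <;> decide +kernel)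
    refine ⟨⟨g, hgH⟩, Equiv.ext fun q => ?_⟩
    have h := List.all_eq_true.1 J2Cert.set_ok q (List.mem_range.2 q.2)
    simp only [J2Cert.setCheck, Bool.and_eq_true, Nat.blt_eq, List.all_eq_true, List.mem_range, beq_iff_eq] at h
    obtain ⟨hx, hy, hall⟩ := h
    have hm := hall_moves q
    cases n
    · refine (hinj (Fin.ext ?_) : f ⟨g, hgH⟩ q = ⟨J2Cert.setActX.getD q 0, hx⟩).trans
        (J2Cert.setImage_eq fun j => ?_).symm
      · exact ((congrArg Fin.val (hf ⟨g, hgH⟩ q)).symm.trans (hg (pt q))).trans hm.1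
      · rw [hu]; exact (hall j j.2).1
    · refine (hinj (Fin.ext ?_) : f ⟨g, hgH⟩ q = ⟨J2Cert.setActY.getD q 0, hy⟩).trans
        (J2Cert.setImage_eq fun j => ?_).symm
      · exact ((congrArg Fin.val (hf ⟨g, hgH⟩ q)).symm.trans (hg (pt q))).trans hm.2
      · rw [hu]; exact (hall j j.2).2
  have hle : J2Cert.setHomJ2.range ≤ σ.range := by
    rintro _ ⟨w, rfl⟩
    induction w using QuotientGroup.induction_on with
    | _ u =>
      have hK : J2Cert.K ≤ (σ.range.comap J2Cert.setHom).map Ico.beta := by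
        refine (Subgroup.closure_le _).2 ?_
        rintro s (rfl | rfl)
        · obtain ⟨v, hv, hv'⟩ := J2Cert.exists_gen false
          exact ⟨v, hgen false v hv hv', hv⟩
        · obtain ⟨v, hv, hv'⟩ := J2Cert.exists_gen true
          exact ⟨v, hgen true v hv hv', hv⟩
      obtain ⟨v, hv, e⟩ := hK (J2Cert.beta_mem u)
      obtain rfl : v = u := Ico.beta_injective e
      exact hv
  have hcJ : Nat.card J2Cert.setHomJ2.range = 604800 := by
    rw [← Nat.card_congr (MonoidHom.ofInjective J2Cert.setHomJ2_injective).toEquiv, J2Cert.card_J2]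
  have hcr : Nat.card σ.range ≤ 604800 := by
    rw [← card_ptH φ hb hcard]
    exact Nat.le_of_dvd Nat.card_pos (Subgroup.card_range_dvd σ)
  have heq : J2Cert.setHomJ2.range = σ.range := Subgroup.eq_of_le_of_card_ge hle (hcr.trans_eq hcJ.symm)
  have hσ : Function.Injective σ := by
    have h2 : Function.Bijective σ.rangeRestrict := by
      refine (Nat.bijective_iff_surjective_and_card _).2 ⟨σ.rangeRestrict_surjective, ?_⟩
      rw [card_ptH φ hb hcard, ← heq, hcJ]
    exact fun a b e => h2.1 (Subtype.ext e)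
  exact ⟨((MonoidHom.ofInjective hσ).trans (MulEquiv.subgroupCongr heq.symm)).trans
    (MonoidHom.ofInjective J2Cert.setHomJ2_injective).symm⟩

/-- The point stabiliser is maximal, and so is each two-point stabiliser inside it. -/
theorem exists_coatom (hcard : Nat.card G = 251596800) : ∃ H : Subgroup G, IsCoatom H ∧ Cfsg.Spor.IsoJ2 H ∧
    ∀ x : G, x ∉ H → IsCoatom ((H ⊓ H.map (MulAut.conj x).toMonoidHom).subgroupOf H) :=
  ⟨ptH φ, coatom_ptH φ hb, iso_J2 φ hb hcard, fun x hx => by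
    rw [inf_conj]
    exact coatom_subS φ hb hcard fun e => hx e⟩

end

end Cfsg.Agent.Lie.GTwoFourHallJanko
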